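import Groth.Agent.BcMapZero.Square
import Groth.Agent.S4329
import Groth.Prelude.Def_EtBCD
import Groth.Prelude.Def_EtBC2

/-! consequences of the invertibility of the derived base change map on single sheaves -/

set_option autoImplicit false
set_option linter.style.haveILetI false

universe u

open CategoryTheory CategoryTheory.Limits AlgebraicGeometry

attribute [local instance] HasDerivedCategory.standard

namespace Groth.Agent.BcMapZero

set_option backward.isDefEq.respectTransparency.types false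

variable {X Y : Scheme.{u}}

/-- the unit of `Rf_*` -/
noncomputable abbrev rU (f : X ⟶ Y) [DCoh.HasRpushEt X f] :=
  (DCoh.pushEtKh X f).totalRightDerivedUnit DerivedCategory.Qh
    (HomotopyCategory.quasiIso (EtCoh.Ab X) (ComplexShape.up ℤ))

theorem preservesFiniteLimits_push (f : X ⟶ Y) : PreservesFiniteLimits (EtCoh.push f) :=
  haveI : PreservesLimitsOfSize.{0, 0} (EtCoh.push f) := (EtCoh.pullPushAdj f).rightAdjoint_preservesLimits
  PreservesLimitsOfSize.preservesFiniteLimits _

theorem preservesFiniteColimits_pull (f : X ⟶ Y) : PreservesFiniteColimits (EtCoh.pull f) :=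
  haveI : PreservesColimitsOfSize.{0, 0} (EtCoh.pull f) := (EtCoh.pullPushAdj f).leftAdjoint_preservesColimits
  PreservesColimitsOfSize.preservesFiniteColimits _

theorem isIso_H_kap_et (f : X ⟶ Y) [DCoh.HasRpushEt X f] (M : EtCoh.Ab X) :
    IsIso ((DerivedCategory.homologyFunctor (EtCoh.Ab Y) 0).map
      (kap (EtCoh.push f) (DCoh.RpushEt X f) (rU f) M)) := by
  haveI := preservesFiniteLimits_push f
  haveI : (EtCoh.push f).Additive := (EtCoh.pullPushAdj f).right_adjoint_additive
  exact isIso_H_kap _ _ _ (fun I _ => S4329.Aux.isIso_unit f I) M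

theorem bijective_kap_et (f : X ⟶ Y) [DCoh.HasRpushEt X f] (N : EtCoh.Ab Y) (M : EtCoh.Ab X) :
    Function.Bijective fun v : N ⟶ (EtCoh.push f).obj M =>
      (DerivedCategory.singleFunctor (EtCoh.Ab Y) 0).map v ≫ kap (EtCoh.push f) (DCoh.RpushEt X f) (rU f) M := by
  haveI := preservesFiniteLimits_push f
  exact bijective_comp_kap _ _ _ (fun I _ => S4329.Aux.isIso_unit f I) (fun I _ => S4329.Aux.isKInjective_push f I) N M

theorem nonempty_H_rpush_single (f : X ⟶ Y) [DCoh.HasRpushEt X f] (M : EtCoh.Ab X) (n : ℕ) :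
    Nonempty ((DerivedCategory.homologyFunctor (EtCoh.Ab Y) (n : ℤ)).obj
      ((DCoh.RpushEt X f).obj ((DerivedCategory.singleFunctor (EtCoh.Ab X) 0).obj M)) ≅
        (EtCoh.Rpush f n).obj M) := by
  obtain ⟨e⟩ := nonempty_H_single (EtCoh.push f) (DCoh.RpushEt X f) (rU f) (fun I _ => S4329.Aux.isIso_unit f I) M n
  exact ⟨e⟩

variable {X' Y' : Scheme.{u}} (f : X ⟶ Y) (g : Y' ⟶ Y) (f' : X' ⟶ Y') (g' : X' ⟶ X) (w : g' ≫ f = f' ≫ g)
  [PreservesFiniteLimits (EtCoh.pull g)] [PreservesFiniteLimits (EtCoh.pull g')]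
  [DCoh.HasRpushEt X f] [DCoh.HasRpushEt X' f'] [DCoh.HasRpushEt Y' g]
  (adj : EtBC.pullD g ⊣ DCoh.RpushEt Y' g) (F : EtCoh.Ab X)

/-- degree zero: the base change morphism of sheaves is invertible when the derived one is so on `H⁰` -/
theorem isIso_baseChange0_of_bcMap
    (h : IsIso ((DerivedCategory.homologyFunctor (EtCoh.Ab Y') 0).map
      (EtBC.bcMap f g f' g' w adj ((DerivedCategory.singleFunctor (EtCoh.Ab X) 0).obj F)))) :
    IsIso (EtCoh.baseChange0 f g f' g' w F) := by
  haveI := preservesFiniteColimits_pull g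
  haveI := preservesFiniteColimits_pull g'
  haveI : (EtCoh.pull g).Additive := Functor.additive_of_preserves_binary_products _
  haveI : (EtCoh.pull g').Additive := Functor.additive_of_preserves_binary_products _
  have hb : ∀ K, (rU f).app K ≫ (EtBC.bcAdj f g f' g' w).app (DerivedCategory.Qh.obj K) =
      (squareUnit (EtCoh.push f) (EtCoh.pull g') (EtCoh.push f') (EtCoh.push g) (EtBC.pushToPushPull f g f' g' w)
        (DCoh.RpushEt X' f') (rU f') (DCoh.RpushEt Y' g) (rU g)).app K :=
    fun K => (DCoh.RpushEt X f).rightDerived_fac_app (rU f) (HomotopyCategory.quasiIso (EtCoh.Ab X) (ComplexShape.up ℤ))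
      (EtBC.pullD g' ⋙ DCoh.RpushEt X' f' ⋙ DCoh.RpushEt Y' g) (EtBC.bcUnit f g f' g' w) K
  have := isIso_symm_of_derived (EtCoh.pullPushAdj g) adj hb F (isIso_H_kap_et f F)
    (isIso_H_kap_et f' _) (bijective_kap_et g) h
  have e : EtCoh.baseChange0 f g f' g' w F =
      ((EtCoh.pullPushAdj g).homEquiv _ _).symm ((EtBC.pushToPushPull f g f' g' w).app F) := by
    unfold EtCoh.baseChange0
    refine congrArg ((EtCoh.pullPushAdj g).homEquiv _ _).symm ?_
    simp [EtBC.pushToPushPull]
  rw [e]
  exact this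

/-- positive degrees: a vanishing direct image stays zero when the derived map is invertible there -/
theorem isZero_rpush_of_bcMap (n : ℕ) (h0 : IsZero ((EtCoh.Rpush f n).obj F))
    (h : IsIso ((DerivedCategory.homologyFunctor (EtCoh.Ab Y') (n : ℤ)).map
      (EtBC.bcMap f g f' g' w adj ((DerivedCategory.singleFunctor (EtCoh.Ab X) 0).obj F)))) :
    IsZero ((EtCoh.Rpush f' n).obj ((EtCoh.pull g').obj F)) := by
  haveI := preservesFiniteColimits_pull g
  haveI := preservesFiniteColimits_pull g'
  haveI : (EtCoh.pull g).Additive := Functor.additive_of_preserves_binary_products _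
  haveI : (EtCoh.pull g').Additive := Functor.additive_of_preserves_binary_products _
  haveI := h
  obtain ⟨e₁⟩ := nonempty_H_rpush_single f F n
  obtain ⟨e₂⟩ := nonempty_H_rpush_single f' ((EtCoh.pull g').obj F) n
  refine IsZero.of_iso ?_ (e₂.symm ≪≫ (DerivedCategory.homologyFunctor _ (n : ℤ)).mapIso
    ((DCoh.RpushEt X' f').mapIso (singleIso (EtCoh.pull g') F).symm) ≪≫
      (asIso ((DerivedCategory.homologyFunctor (EtCoh.Ab Y') (n : ℤ)).map
        (EtBC.bcMap f g f' g' w adj ((DerivedCategory.singleFunctor (EtCoh.Ab X) 0).obj F)))).symm)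
  refine IsZero.of_iso ?_ ((KFlatLib.mapDCHomologyIso (EtCoh.pull g) (n : ℤ)).app _)
  exact (EtCoh.pull g).map_isZero (h0.of_iso e₁)

end Groth.Agent.BcMapZero
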