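import Groth.Agent.BcMapZero.Kappa

/-! a derived square on a single object, in cohomological degree zero -/

set_option autoImplicit false
set_option linter.style.haveILetI false
set_option linter.unusedSectionVars false

open CategoryTheory CategoryTheory.Limits
open Groth.Agent.KFlatLib (singleQ)

namespace Groth.Agent.BcMapZero

universe wA wB wC wD vA vB vC vD uA uB uC uD

variable {A : Type uA} [Category.{vA} A] [Abelian A] [HasDerivedCategory.{wA} A]
variable {B : Type uB} [Category.{vB} B] [Abelian B] [HasDerivedCategory.{wB} B]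
variable {C : Type uC} [Category.{vC} C] [Abelian C] [HasDerivedCategory.{wC} C]
variable {D : Type uD} [Category.{vD} D] [Abelian D] [HasDerivedCategory.{wD} D]

local notation "q" => HomotopyCategory.quotient _ (ComplexShape.up ℤ)
local notation "sC" => HomologicalComplex.single _ (ComplexShape.up ℤ) (0 : ℤ)
local notation "sD" => DerivedCategory.singleFunctor _ (0 : ℤ)

variable (P : A ⥤ B) [P.Additive] (Q : A ⥤ C) [Q.Additive] [PreservesFiniteLimits Q] [PreservesFiniteColimits Q]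
  (S : C ⥤ D) [S.Additive] (T : D ⥤ B) [T.Additive] (ptp : P ⟶ Q ⋙ S ⋙ T)

/-- a transformation into a triple composite, on homotopy categories -/
noncomputable def tripleH :
    P.mapHomotopyCategory (ComplexShape.up ℤ) ⟶
      Q.mapHomotopyCategory (ComplexShape.up ℤ) ⋙ S.mapHomotopyCategory (ComplexShape.up ℤ) ⋙
        T.mapHomotopyCategory (ComplexShape.up ℤ) :=
  NatTrans.mapHomotopyCategory ptp (ComplexShape.up ℤ) ≫
    (Functor.mapHomotopyCategoryCompIso (Iso.refl (Q ⋙ (S ⋙ T))) (ComplexShape.up ℤ)).inv ≫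
    Functor.whiskerLeft (Q.mapHomotopyCategory (ComplexShape.up ℤ))
      (Functor.mapHomotopyCategoryCompIso (Iso.refl (S ⋙ T)) (ComplexShape.up ℤ)).inv

variable (RS : DerivedCategory C ⥤ DerivedCategory D)
  (αS : S.mapHomotopyCategory (ComplexShape.up ℤ) ⋙ DerivedCategory.Qh ⟶ DerivedCategory.Qh ⋙ RS)
  (RT : DerivedCategory D ⥤ DerivedCategory B)
  (αT : T.mapHomotopyCategory (ComplexShape.up ℤ) ⋙ DerivedCategory.Qh ⟶ DerivedCategory.Qh ⋙ RT)

/-- the unit of a derived square -/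
noncomputable def squareUnit :
    P.mapHomotopyCategory (ComplexShape.up ℤ) ⋙ DerivedCategory.Qh ⟶
      DerivedCategory.Qh ⋙ (Q.mapDerivedCategory ⋙ RS ⋙ RT) :=
  Functor.whiskerRight (tripleH P Q S T ptp) DerivedCategory.Qh ≫
    (Functor.associator _ _ _).hom ≫
    Functor.whiskerLeft (Q.mapHomotopyCategory (ComplexShape.up ℤ))
      ((Functor.associator _ _ _).hom ≫
        Functor.whiskerLeft (S.mapHomotopyCategory (ComplexShape.up ℤ)) αT ≫
        (Functor.associator _ _ _).inv ≫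
        Functor.whiskerRight αS RT ≫
        (Functor.associator _ _ _).hom) ≫
    (Functor.associator _ _ _).inv ≫
    Functor.whiskerRight Q.mapDerivedCategoryFactorsh.inv (RS ⋙ RT) ≫
    (Functor.associator _ _ _).hom

/-- exact functors on single objects -/
noncomputable def singleIso (M : A) : Q.mapDerivedCategory.obj ((sD).obj M) ≅ (sD).obj (Q.obj M) :=
  Q.mapDerivedCategoryFactorsh.app ((q).obj ((sC).obj M)) ≪≫
    DerivedCategory.Qh.mapIso ((q).mapIso
      ((HomologicalComplex.singleMapHomologicalComplex Q (ComplexShape.up ℤ) 0).app M))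

theorem tripleH_single (M : A) :
    (q).map ((HomologicalComplex.singleMapHomologicalComplex P (ComplexShape.up ℤ) 0).inv.app M) ≫
      (tripleH P Q S T ptp).app ((q).obj ((sC).obj M)) ≫
        (T.mapHomotopyCategory (ComplexShape.up ℤ)).map ((S.mapHomotopyCategory (ComplexShape.up ℤ)).map
          ((q).map ((HomologicalComplex.singleMapHomologicalComplex Q (ComplexShape.up ℤ) 0).hom.app M))) =
    (q).map ((sC).map (ptp.app M)) ≫
      (q).map ((HomologicalComplex.singleMapHomologicalComplex T (ComplexShape.up ℤ) 0).inv.app (S.obj (Q.obj M))) ≫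
        (T.mapHomotopyCategory (ComplexShape.up ℤ)).map
          ((q).map ((HomologicalComplex.singleMapHomologicalComplex S (ComplexShape.up ℤ) 0).inv.app (Q.obj M))) := by
  show (q).map _ ≫ ((q).map ((NatTrans.mapHomologicalComplex ptp (ComplexShape.up ℤ)).app ((sC).obj M)) ≫
      (q).map ((Functor.mapHomologicalComplexCompIso (Iso.refl (Q ⋙ (S ⋙ T))) (ComplexShape.up ℤ)).inv.app ((sC).obj M)) ≫
      (q).map ((Functor.mapHomologicalComplexCompIso (Iso.refl (S ⋙ T)) (ComplexShape.up ℤ)).inv.app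
        ((Q.mapHomologicalComplex (ComplexShape.up ℤ)).obj ((sC).obj M)))) ≫
      (q).map ((T.mapHomologicalComplex (ComplexShape.up ℤ)).map ((S.mapHomologicalComplex (ComplexShape.up ℤ)).map
          ((HomologicalComplex.singleMapHomologicalComplex Q (ComplexShape.up ℤ) 0).hom.app M))) =
    (q).map _ ≫ (q).map _ ≫ (q).map ((T.mapHomologicalComplex (ComplexShape.up ℤ)).map
      ((HomologicalComplex.singleMapHomologicalComplex S (ComplexShape.up ℤ) 0).inv.app (Q.obj M)))
  simp only [← Functor.map_comp]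
  refine congrArg (q).map (HomologicalComplex.from_single_hom_ext ?_)
  simp [HomologicalComplex.single_map_f_self, HomologicalComplex.singleObjXSelf]
  erw [Category.id_comp, Category.id_comp, ptp.naturality_assoc]
  simp [HomologicalComplex.singleObjXIsoOfEq]
  erw [Category.id_comp]
  simp [eqToHom_map]
  repeat erw [eqToHom_map]
  repeat erw [eqToHom_trans]
  erw [Category.id_comp]

/-- the chain of the proof of `kap_eq`, over atoms -/
theorem kap_chain {EC : Type*} [Category* EC] {ED : Type*} [Category* ED] {EB : Type*} [Category* EB]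
    {RS : EC ⥤ ED} {RT : ED ⥤ EB} {b₀ b₁ b₂ b₄ b₅ b₆ bp : EB} {c₀ c₁ c₂ : EC} {d₁ d₂ d₃ : ED}
    (x : b₀ ⟶ b₁) {aP : b₁ ⟶ bp} {β : bp ⟶ RT.obj (RS.obj c₀)} {pp : b₁ ⟶ b₂} {aT₁ : b₂ ⟶ RT.obj d₁}
    {aS₁ : d₁ ⟶ RS.obj c₁} {fi : c₁ ⟶ c₀} {fh : c₀ ⟶ c₁} {sh : c₁ ⟶ c₂} {shD : d₁ ⟶ d₂} {shB : b₂ ⟶ b₄}
    {aT₂ : b₄ ⟶ RT.obj d₂} {aS₂ : d₂ ⟶ RS.obj c₂} {wB : b₆ ⟶ b₄} {wD : d₃ ⟶ d₂} {aT₃ : b₆ ⟶ RT.obj d₃}
    {y : b₀ ⟶ b₅} {z : b₅ ⟶ b₆} {U : b₁ ⟶ RT.obj (RS.obj c₀)}
    (h₁ : aP ≫ β = U) (h₂ : U = pp ≫ aT₁ ≫ RT.map aS₁ ≫ RT.map (RS.map fi)) (h₃ : fi ≫ fh = 𝟙 _)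
    (h₄ : shD ≫ aS₂ = aS₁ ≫ RS.map sh) (h₅ : shB ≫ aT₂ = aT₁ ≫ RT.map shD)
    (h₆ : wB ≫ aT₂ = aT₃ ≫ RT.map wD) (h₀ : x ≫ pp ≫ shB = y ≫ z ≫ wB) :
    (x ≫ aP) ≫ β ≫ RT.map (RS.map (fh ≫ sh)) = y ≫ (z ≫ aT₃) ≫ RT.map (wD ≫ aS₂) := by
  rw [Category.assoc, reassoc_of% h₁, h₂]
  simp only [Category.assoc, ← Functor.map_comp]
  rw [reassoc_of% h₃, ← h₄, Functor.map_comp, ← reassoc_of% h₅, reassoc_of% h₀, reassoc_of% h₆, Functor.map_comp]

/-- mapping an equation of triple composites -/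
theorem map_eq₃ {E₁ E₂ : Type*} [Category* E₁] [Category* E₂] (Φ : E₁ ⥤ E₂) {a b c d b' c' : E₁}
    {f : a ⟶ b} {g : b ⟶ c} {h : c ⟶ d} {f' : a ⟶ b'} {g' : b' ⟶ c'} {h' : c' ⟶ d}
    (w : f ≫ g ≫ h = f' ≫ g' ≫ h') : Φ.map f ≫ Φ.map g ≫ Φ.map h = Φ.map f' ≫ Φ.map g' ≫ Φ.map h' := by
  rw [← Φ.map_comp, ← Φ.map_comp, w, Φ.map_comp, Φ.map_comp]

theorem kap_eq (RP : DerivedCategory A ⥤ DerivedCategory B)
    (αP : P.mapHomotopyCategory (ComplexShape.up ℤ) ⋙ DerivedCategory.Qh ⟶ DerivedCategory.Qh ⋙ RP)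
    (β : RP ⟶ Q.mapDerivedCategory ⋙ RS ⋙ RT)
    (hβ : ∀ K, αP.app K ≫ β.app (DerivedCategory.Qh.obj K) = (squareUnit P Q S T ptp RS αS RT αT).app K) (M : A) :
    kap P RP αP M ≫ β.app ((sD).obj M) ≫ RT.map (RS.map (singleIso Q M).hom) =
      (sD).map (ptp.app M) ≫ kap T RT αT (S.obj (Q.obj M)) ≫ RT.map (kap S RS αS (Q.obj M)) := by
  have h0 := map_eq₃ DerivedCategory.Qh (tripleH_single P Q S T ptp M)
  have hS := αS.naturality ((q).map ((HomologicalComplex.singleMapHomologicalComplex Q (ComplexShape.up ℤ) 0).hom.app M))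
  have hT₁ := αT.naturality ((S.mapHomotopyCategory (ComplexShape.up ℤ)).map
    ((q).map ((HomologicalComplex.singleMapHomologicalComplex Q (ComplexShape.up ℤ) 0).hom.app M)))
  have hT₂ := αT.naturality ((q).map ((HomologicalComplex.singleMapHomologicalComplex S (ComplexShape.up ℤ) 0).inv.app (Q.obj M)))
  have hU : (squareUnit P Q S T ptp RS αS RT αT).app ((q).obj ((sC).obj M)) =
      DerivedCategory.Qh.map ((tripleH P Q S T ptp).app ((q).obj ((sC).obj M))) ≫
        αT.app ((S.mapHomotopyCategory (ComplexShape.up ℤ)).obj ((Q.mapHomotopyCategory (ComplexShape.up ℤ)).obj ((q).obj ((sC).obj M)))) ≫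
          RT.map (αS.app ((Q.mapHomotopyCategory (ComplexShape.up ℤ)).obj ((q).obj ((sC).obj M)))) ≫
            RT.map (RS.map (Q.mapDerivedCategoryFactorsh.inv.app ((q).obj ((sC).obj M)))) := by
    simp [squareUnit]
  simp only [Functor.comp_map] at hS hT₁ hT₂
  exact kap_chain (RS := RS) (RT := RT) (DerivedCategory.Qh.map ((q).map
      ((HomologicalComplex.singleMapHomologicalComplex P (ComplexShape.up ℤ) 0).inv.app M)))
    (hβ ((q).obj ((sC).obj M))) hU (Iso.inv_hom_id_app _ _) hS hT₁ hT₂ h0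

section Transpose

variable {T} {F : B ⥤ D} [F.Additive] [PreservesFiniteLimits F] [PreservesFiniteColimits F]
  (adj : F ⊣ T) {RT αT} (adjD : F.mapDerivedCategory ⊣ RT)

/-- an adjunction of derived categories detects the transpose of a map in degree zero -/
theorem isIso_transpose (hT : ∀ (N : B) (M : D),
      Function.Bijective fun v : N ⟶ T.obj M => (sD).map v ≫ kap T RT αT M) {N : B} {M : D}
    (w : N ⟶ T.obj M)
    (h : IsIso ((DerivedCategory.homologyFunctor D 0).map
      ((adjD.homEquiv _ _).symm ((sD).map w ≫ kap T RT αT M)))) :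
    IsIso ((adj.homEquiv _ _).symm w) := by
  let e := singleIso F N
  obtain ⟨v, hv⟩ := (hT N (F.obj N)).2 ((adjD.homEquiv _ _) e.hom)
  change (sD).map v ≫ kap T RT αT (F.obj N) = _ at hv
  let ε := (adj.homEquiv _ _).symm v
  have key : ∀ {M' : D} (b : F.obj N ⟶ M'),
      (sD).map (v ≫ T.map b) ≫ kap T RT αT M' = (adjD.homEquiv _ _) (e.hom ≫ (sD).map b) := fun {M'} b => by
    rw [adjD.homEquiv_naturality_right, ← hv, Functor.map_comp, Category.assoc, Category.assoc, kap_naturality]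
  have hbij : ∀ M' : D, Function.Bijective fun b : F.obj N ⟶ M' => ε ≫ b := fun M' => by
    have h1 : Function.Bijective fun b : F.obj N ⟶ M' => v ≫ T.map b := by
      refine (Function.Bijective.of_comp_iff' (hT N M') _).1 ?_
      refine ⟨fun a b hab => ?_, fun y => ?_⟩
      · simp only [Function.comp_apply, key] at hab
        exact (DerivedCategory.singleFunctor D 0).map_injective ((cancel_epi e.hom).1 ((adjD.homEquiv _ _).injective hab))
      · obtain ⟨b, hb⟩ := (DerivedCategory.singleFunctor D 0).map_surjective (e.inv ≫ (adjD.homEquiv _ _).symm y)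
        refine ⟨b, ?_⟩
        simp only [Function.comp_apply, key, hb, Iso.hom_inv_id_assoc, Equiv.apply_symm_apply]
    have e2 : (fun b : F.obj N ⟶ M' => ε ≫ b) = (adj.homEquiv _ _).symm ∘ fun b => v ≫ T.map b :=
      funext fun b => (adj.homEquiv_naturality_right_symm v b).symm
    rw [e2]
    exact (Equiv.bijective _).comp h1
  haveI : IsIso ε := by
    obtain ⟨i, hi⟩ := (hbij (F.obj N)).2 (𝟙 _)
    exact ⟨i, hi, (hbij (F.obj N)).1 (show ε ≫ i ≫ ε = ε ≫ 𝟙 _ by rw [reassoc_of% hi, Category.comp_id])⟩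
  obtain ⟨a, ha⟩ := (DerivedCategory.singleFunctor D 0).map_surjective
    (e.inv ≫ (adjD.homEquiv _ _).symm ((sD).map w ≫ kap T RT αT M))
  have hw : w = v ≫ T.map a := (hT N M).1 (show (sD).map w ≫ _ = (sD).map (v ≫ T.map a) ≫ _ by
    rw [key, ha, Iso.hom_inv_id_assoc, Equiv.apply_symm_apply])
  haveI : IsIso a := by
    haveI : IsIso ((DerivedCategory.homologyFunctor D 0).map ((sD).map a)) := by
      rw [ha, Functor.map_comp]
      exact IsIso.comp_isIso' (Functor.map_isIso _ _) h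
    exact (NatIso.isIso_map_iff (DerivedCategory.singleFunctorCompHomologyFunctorIso D 0) a).1 ‹_›
  rw [hw, adj.homEquiv_naturality_right_symm]
  exact IsIso.comp_isIso' ‹IsIso ε› ‹IsIso a›

end Transpose

section Main

variable {P Q S T ptp RS αS RT αT} {RP : DerivedCategory A ⥤ DerivedCategory B}
  {αP : P.mapHomotopyCategory (ComplexShape.up ℤ) ⋙ DerivedCategory.Qh ⟶ DerivedCategory.Qh ⋙ RP}
  {F : B ⥤ D} [F.Additive] [PreservesFiniteLimits F] [PreservesFiniteColimits F]
  (adj : F ⊣ T) (adjD : F.mapDerivedCategory ⊣ RT)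

/-- the base change map on sheaves is invertible when the derived one is so in degree zero -/
theorem isIso_symm_of_derived {β : RP ⟶ Q.mapDerivedCategory ⋙ RS ⋙ RT}
    (hβ : ∀ K, αP.app K ≫ β.app (DerivedCategory.Qh.obj K) = (squareUnit P Q S T ptp RS αS RT αT).app K) (M : A)
    (hP : IsIso ((DerivedCategory.homologyFunctor B 0).map (kap P RP αP M)))
    (hS : IsIso ((DerivedCategory.homologyFunctor D 0).map (kap S RS αS (Q.obj M))))
    (hT : ∀ (N : B) (M' : D), Function.Bijective fun v : N ⟶ T.obj M' => (sD).map v ≫ kap T RT αT M')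
    (h : IsIso ((DerivedCategory.homologyFunctor D 0).map ((adjD.homEquiv _ _).symm (β.app ((sD).obj M))))) :
    IsIso ((adj.homEquiv _ _).symm (ptp.app M)) := by
  refine isIso_transpose adj adjD hT (ptp.app M) ?_
  have hφ : (adjD.homEquiv _ _).symm ((sD).map (ptp.app M) ≫ kap T RT αT (S.obj (Q.obj M))) ≫ kap S RS αS (Q.obj M) =
      F.mapDerivedCategory.map (kap P RP αP M) ≫ (adjD.homEquiv _ _).symm (β.app ((sD).obj M)) ≫
        RS.map (singleIso Q M).hom := by
    rw [← adjD.homEquiv_naturality_right_symm, Category.assoc, ← kap_eq P Q S T ptp RS αS RT αT RP αP β hβ M,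
      adjD.homEquiv_naturality_left_symm]
    exact congrArg (_ ≫ ·) (adjD.homEquiv_naturality_right_symm _ _)
  have h2 := congrArg (DerivedCategory.homologyFunctor D 0).map hφ
  simp only [Functor.map_comp] at h2
  haveI : IsIso ((DerivedCategory.homologyFunctor D 0).map (F.mapDerivedCategory.map (kap P RP αP M))) := by
    haveI := hP
    exact (NatIso.isIso_map_iff (KFlatLib.mapDCHomologyIso F 0) (kap P RP αP M)).2
      (inferInstanceAs (IsIso (F.map ((DerivedCategory.homologyFunctor B 0).map (kap P RP αP M)))))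
  haveI := hS
  refine @IsIso.of_isIso_comp_right _ _ _ _ _ _ ((DerivedCategory.homologyFunctor D 0).map (kap S RS αS (Q.obj M))) hS ?_
  rw [h2]
  exact IsIso.comp_isIso' ‹_› (IsIso.comp_isIso' h (Functor.map_isIso _ _))

end Main

end Groth.Agent.BcMapZero
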