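import Groth.Agent.KFlatLib.PsiC
import Groth.Agent.TriCat.MapExtend
import Mathlib.Algebra.Homology.DerivedCategory.KInjective
import Mathlib.CategoryTheory.Abelian.RightDerived
import Mathlib.CategoryTheory.Abelian.Injective.Extend

/-! derived functors on single objects, through a natural map from the functor -/

set_option autoImplicit false
set_option linter.style.haveILetI false
set_option linter.unusedSectionVars false

open CategoryTheory CategoryTheory.Limits
open Groth.Agent.KFlatLib (psiC hSingle singleQ)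

namespace Groth.Agent.BcMapZero

universe wA wB vA vB uA uB

variable {A : Type uA} [Category.{vA} A] [Abelian A] [HasDerivedCategory.{wA} A]
variable {B : Type uB} [Category.{vB} B] [Abelian B] [HasDerivedCategory.{wB} B]

local notation "q" => HomotopyCategory.quotient _ (ComplexShape.up ℤ)
local notation "sC" => HomologicalComplex.single _ (ComplexShape.up ℤ) (0 : ℤ)

/-- `Hom(P, L) = Hom(P, H⁰ L)` when `L` has a K-injective model in degrees `≥ 0`. -/
theorem bijective_psiC_zero (P : A) {L : DerivedCategory A} (I : CochainComplex A ℤ) [I.IsKInjective]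
    [I.IsStrictlyGE 0] (e : DerivedCategory.Q.obj I ≅ L) : Function.Bijective (psiC 0 P L) := by
  refine KFlatLib.bijective_psiC_of_iso e ?_
  haveI : IsIso (I.homologyπ 0) :=
    HomologicalComplex.isIso_homologyπ I (-1) 0 (by simp)
      ((CochainComplex.isZero_of_isStrictlyGE I 0 (-1) (by lia)).eq_of_src _ _)
  have hA : ∀ c : P ⟶ I.cycles 0, c ≫ I.homologyπ 0 = 0 →
      ∃ h : P ⟶ I.X (0 - 1), h ≫ I.toCycles (0 - 1) 0 = c := fun c hc =>
    ⟨0, zero_comp.trans ((cancel_mono (I.homologyπ 0)).1 (hc.trans zero_comp.symm)).symm⟩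
  have hB : ∀ y : P ⟶ I.homology 0, ∃ ζ : P ⟶ I.cycles 0, ζ ≫ I.homologyπ 0 = y := fun y =>
    ⟨y ≫ inv (I.homologyπ 0), by simp⟩
  refine ⟨fun a b hab => sub_eq_zero.1 ?_, fun y => ?_⟩
  · have hc : psiC 0 P _ (a - b) = 0 := by
      simp only [psiC, Functor.map_sub, Preadditive.comp_sub]
      exact sub_eq_zero.2 hab
    generalize a - b = c at hc
    obtain ⟨g', hg'⟩ := (CochainComplex.IsKInjective.Qh_map_bijective ((q).obj ((sC).obj P)) I).2
        ((DerivedCategory.quotientCompQhIso A).hom.app _ ≫ (singleQ 0 P).inv ≫ c ≫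
          (DerivedCategory.quotientCompQhIso A).inv.app I)
    obtain ⟨g, rfl⟩ := (HomotopyCategory.quotient A _).map_surjective g'
    have hc' : c = (singleQ 0 P).hom ≫ DerivedCategory.Q.map g := by
      have := (DerivedCategory.quotientCompQhIso A).hom.naturality g
      simp only [Functor.comp_map] at this
      rw [hg'] at this
      simp only [Category.assoc, Iso.inv_hom_id_app, Category.comp_id] at this
      erw [cancel_epi] at this
      rw [← this, Iso.hom_inv_id_assoc]
    rw [hc'] at hc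
    obtain ⟨H⟩ := KFlatLib.homotopy_zero_of_homologyMap 0 hA g (KFlatLib.homologyMap_eq_zero_of_psiC 0 g hc)
    exact hc'.trans ((congrArg ((singleQ 0 P).hom ≫ ·)
      ((DerivedCategory.Q_map_eq_of_homotopy A H).trans (Functor.map_zero _ _ _))).trans comp_zero)
  · obtain ⟨g, hg⟩ := KFlatLib.exists_psiC_Q_map 0 hB y
    exact ⟨_, hg⟩

/-- transporting a commutative square through two functors -/
theorem comp_eq_comp_of_sq {E₁ E₂ E₃ : Type*} [Category* E₁] [Category* E₂] [Category* E₃] (Φ : E₂ ⥤ E₃) (Ψ : E₁ ⥤ E₂)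
    {a b c d : E₁} {f : a ⟶ b} {g : b ⟶ d} {h : a ⟶ c} {k : c ⟶ d} (w : f ≫ g = h ≫ k) {z : E₃}
    (t : Φ.obj (Ψ.obj d) ⟶ z) :
    Φ.map (Ψ.map f) ≫ Φ.map (Ψ.map g) ≫ t = Φ.map (Ψ.map h) ≫ Φ.map (Ψ.map k) ≫ t := by
  rw [← Functor.map_comp_assoc, ← Functor.map_comp, w, Functor.map_comp, Functor.map_comp, Category.assoc]

/-- the computation in `exists_model`, over atoms -/
theorem model_comp {E₁ E₂ E₃ E₄ : Type*} [Category* E₁] [Category* E₂] [Category* E₃] [Category* E₄] {Φ : E₂ ⥤ E₃}
    {Ψ : E₁ ⥤ E₂} {Q : E₁ ⥤ E₃} (ψ : Ψ ⋙ Φ ≅ Q) (R : E₄ ⥤ E₃) {a b c : E₁} (g : a ⟶ b) (i : b ⟶ c) {u v : E₄}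
    (α₁ : Φ.obj (Ψ.obj b) ⟶ R.obj u) (α₂ : Φ.obj (Ψ.obj c) ⟶ R.obj v) (hα₂ : IsIso α₂) (w : u ⟶ v) (hw : IsIso w)
    (h : Φ.map (Ψ.map i) ≫ α₂ = α₁ ≫ R.map w) :
    Q.map (g ≫ i) ≫ ((ψ.app c).symm ≪≫ @asIso _ _ _ _ α₂ hα₂ ≪≫ (R.mapIso (@asIso _ _ _ _ w hw)).symm).hom =
      ψ.inv.app a ≫ Φ.map (Ψ.map g) ≫ α₁ := by
  have hn := ψ.inv.naturality (g ≫ i)
  simp only [Functor.comp_map] at hn
  simp only [Iso.trans_hom, Iso.symm_hom, Iso.app_inv, asIso_hom, Functor.mapIso_inv, asIso_inv]
  rw [reassoc_of% hn, Functor.map_comp, Functor.map_comp, Category.assoc, reassoc_of% h, ← R.map_comp,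
    IsIso.hom_inv_id, R.map_id, Category.comp_id]

variable (G : A ⥤ B) [G.Additive] (R : DerivedCategory A ⥤ DerivedCategory B)
  (α : G.mapHomotopyCategory (ComplexShape.up ℤ) ⋙ DerivedCategory.Qh ⟶ DerivedCategory.Qh ⋙ R)

/-- the comparison of `G M` with `R M` -/
noncomputable def kap (M : A) :
    (DerivedCategory.singleFunctor B 0).obj (G.obj M) ⟶ R.obj ((DerivedCategory.singleFunctor A 0).obj M) :=
  DerivedCategory.Qh.map ((q).map ((HomologicalComplex.singleMapHomologicalComplex G (ComplexShape.up ℤ) 0).inv.app M)) ≫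
    α.app ((q).obj ((sC).obj M))

theorem kap_naturality {M M' : A} (a : M ⟶ M') :
    (DerivedCategory.singleFunctor B 0).map (G.map a) ≫ kap G R α M' =
      kap G R α M ≫ R.map ((DerivedCategory.singleFunctor A 0).map a) := by
  have h1 := α.naturality ((q).map ((sC).map a))
  have h2 := (HomologicalComplex.singleMapHomologicalComplex G (ComplexShape.up ℤ) 0).inv.naturality a
  show DerivedCategory.Qh.map ((q).map ((sC).map (G.map a))) ≫
      DerivedCategory.Qh.map ((q).map ((HomologicalComplex.singleMapHomologicalComplex G (ComplexShape.up ℤ) 0).inv.app M')) ≫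
        α.app ((q).obj ((sC).obj M')) =
    (DerivedCategory.Qh.map ((q).map ((HomologicalComplex.singleMapHomologicalComplex G (ComplexShape.up ℤ) 0).inv.app M)) ≫
      α.app ((q).obj ((sC).obj M))) ≫ R.map (DerivedCategory.Qh.map ((q).map ((sC).map a)))
  simp only [Functor.comp_map] at h1 h2
  refine Eq.trans ?_ ((congrArg (_ ≫ ·) h1).trans (Category.assoc _ _ _).symm)
  exact comp_eq_comp_of_sq DerivedCategory.Qh (HomotopyCategory.quotient B (ComplexShape.up ℤ)) h2 _

variable [PreservesFiniteLimits G] [HasInjectiveResolutions A]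
  (hα : ∀ (I : CochainComplex A ℤ) [I.IsKInjective], IsIso (α.app ((q).obj I)))

omit [PreservesFiniteLimits G] in
include hα in
/-- `R M` is computed by an injective resolution. -/
theorem exists_model (M : A) : ∃ (P : InjectiveResolution M) (e : DerivedCategory.Q.obj
      ((G.mapHomologicalComplex (ComplexShape.up ℤ)).obj P.cochainComplex) ≅
        R.obj ((DerivedCategory.singleFunctor A 0).obj M)),
    DerivedCategory.Q.map ((HomologicalComplex.singleMapHomologicalComplex G (ComplexShape.up ℤ) 0).inv.app M ≫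
      (G.mapHomologicalComplex (ComplexShape.up ℤ)).map P.ι') ≫ e.hom =
        (singleQ 0 (G.obj M)).inv ≫ kap G R α M := by
  obtain ⟨P⟩ := HasInjectiveResolution.out (Z := M)
  refine ⟨P, ?_⟩
  haveI : P.cochainComplex.IsKInjective := CochainComplex.isKInjective_of_injective _ 0
  have hu : IsIso (α.app ((q).obj P.cochainComplex)) := hα P.cochainComplex
  have hi : IsIso (DerivedCategory.Qh.map ((q).map P.ι')) :=
    (NatIso.isIso_map_iff (DerivedCategory.quotientCompQhIso A) P.ι').2 inferInstance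
  let g := (HomologicalComplex.singleMapHomologicalComplex G (ComplexShape.up ℤ) 0).inv.app M
  refine ⟨((DerivedCategory.quotientCompQhIso B).app
      ((G.mapHomologicalComplex (ComplexShape.up ℤ)).obj P.cochainComplex)).symm ≪≫
      @asIso _ _ _ _ _ hu ≪≫ (R.mapIso (@asIso _ _ _ _ _ hi)).symm, ?_⟩
  exact model_comp (DerivedCategory.quotientCompQhIso B) R g ((G.mapHomologicalComplex (ComplexShape.up ℤ)).map P.ι')
    (α.app ((q).obj ((sC).obj M))) (α.app ((q).obj P.cochainComplex)) hu (DerivedCategory.Qh.map ((q).map P.ι')) hi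
    (α.naturality ((q).map P.ι'))

omit [HasInjectiveResolutions A] in
/-- `G` of a resolution still computes `G` in degree zero. -/
theorem quasiIsoAt_resolution {M : A} (P : InjectiveResolution M) :
    QuasiIsoAt ((HomologicalComplex.singleMapHomologicalComplex G (ComplexShape.up ℤ) 0).inv.app M ≫
      (G.mapHomologicalComplex (ComplexShape.up ℤ)).map P.ι') (0 : ℤ) := by
  haveI : QuasiIsoAt ((G.mapHomologicalComplex (ComplexShape.up ℤ)).map P.ι') (0 : ℤ) := by
    have z₁ : IsZero (((sC).obj M).X (-1)) := HomologicalComplex.isZero_single_obj_X _ _ _ _ (by lia)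
    have z₂ : IsZero (((sC).obj M).X 1) := HomologicalComplex.isZero_single_obj_X _ _ _ _ (by lia)
    have z₃ : IsZero (P.cochainComplex.X (-1)) := CochainComplex.isZero_of_isStrictlyGE _ 0 _ (by lia)
    have h := (quasiIsoAt_iff' P.ι' (-1) 0 1 (by simp) (by simp)).1 inferInstance
    rw [ShortComplex.quasiIso_iff_of_zeros _ (z₁.eq_of_src _ _) (z₂.eq_of_tgt _ _) (z₃.eq_of_src _ _)] at h
    rw [quasiIsoAt_iff' _ (-1) 0 1 (by simp) (by simp), ShortComplex.quasiIso_iff_of_zeros _
      ((G.map_isZero z₁).eq_of_src _ _) ((G.map_isZero z₂).eq_of_tgt _ _) ((G.map_isZero z₃).eq_of_src _ _)]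
    haveI : Mono (P.ι'.f 0) := h.2
    exact ⟨h.1.map_of_mono_of_preservesKernel G h.2 inferInstance, G.map_mono (P.ι'.f 0)⟩
  refine (quasiIsoAt_iff_comp_left _ _ _).2 ?_
  assumption

include hα in
theorem isIso_H_kap (M : A) :
    IsIso ((DerivedCategory.homologyFunctor B 0).map (kap G R α M)) := by
  obtain ⟨P, e, he⟩ := exists_model G R α hα M
  haveI := quasiIsoAt_resolution G P
  have h : IsIso ((DerivedCategory.homologyFunctor B 0).map (DerivedCategory.Q.map
      ((HomologicalComplex.singleMapHomologicalComplex G (ComplexShape.up ℤ) 0).inv.app M ≫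
        (G.mapHomologicalComplex (ComplexShape.up ℤ)).map P.ι'))) :=
    (NatIso.isIso_map_iff (DerivedCategory.homologyFunctorFactors B 0) _).2
      ((quasiIsoAt_iff_isIso_homologyMap _ _).1 inferInstance)
  have hk : kap G R α M = (singleQ 0 (G.obj M)).hom ≫ DerivedCategory.Q.map
      ((HomologicalComplex.singleMapHomologicalComplex G (ComplexShape.up ℤ) 0).inv.app M ≫
        (G.mapHomologicalComplex (ComplexShape.up ℤ)).map P.ι') ≫ e.hom := by
    rw [he, Iso.hom_inv_id_assoc]
  rw [hk, Functor.map_comp, Functor.map_comp]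
  exact IsIso.comp_isIso' (Functor.map_isIso _ _) (IsIso.comp_isIso' h (Functor.map_isIso _ _))

omit [PreservesFiniteLimits G] in
include hα in
/-- cohomology of `R M` -/
theorem nonempty_H_single (M : A) (n : ℕ) :
    Nonempty ((DerivedCategory.homologyFunctor B (n : ℤ)).obj (R.obj ((DerivedCategory.singleFunctor A 0).obj M)) ≅
      (G.rightDerived n).obj M) := by
  obtain ⟨P, e, -⟩ := exists_model G R α hα M
  exact ⟨(DerivedCategory.homologyFunctor B n).mapIso e.symm ≪≫
    (DerivedCategory.homologyFunctorFactors B n).app _ ≪≫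
    (HomologicalComplex.homologyFunctor B (ComplexShape.up ℤ) (n : ℤ)).mapIso
      (TriCat.mapExtendIso G ComplexShape.embeddingUpNat P.cocomplex) ≪≫
    HomologicalComplex.extendHomologyIso _ ComplexShape.embeddingUpNat (j := n) (j' := (n : ℤ)) rfl ≪≫
    (P.isoRightDerivedObj G n).symm⟩

variable (hG : ∀ (I : CochainComplex A ℤ) [I.IsKInjective],
    CochainComplex.IsKInjective ((G.mapHomologicalComplex (ComplexShape.up ℤ)).obj I))

include hα hG in
/-- maps into `R M` from an object in degree zero -/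
theorem bijective_comp_kap (N : B) (M : A) :
    Function.Bijective fun v : N ⟶ G.obj M => (DerivedCategory.singleFunctor B 0).map v ≫ kap G R α M := by
  obtain ⟨P, e, -⟩ := exists_model G R α hα M
  haveI : P.cochainComplex.IsKInjective := CochainComplex.isKInjective_of_injective _ 0
  haveI := hG P.cochainComplex
  haveI : CochainComplex.IsStrictlyGE ((G.mapHomologicalComplex (ComplexShape.up ℤ)).obj P.cochainComplex) 0 := by
    rw [CochainComplex.isStrictlyGE_iff]
    exact fun i hi => G.map_isZero (CochainComplex.isZero_of_isStrictlyGE P.cochainComplex 0 i hi)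
  have hb := bijective_psiC_zero N _ e
  haveI := isIso_H_kap G R α hα M
  haveI : IsIso (psiC 0 (G.obj M) _ (kap G R α M)) :=
    IsIso.comp_isIso' (Iso.isIso_inv _) ‹_›
  refine ⟨fun v v' hv => (cancel_mono (psiC 0 (G.obj M) _ (kap G R α M))).1 ?_, fun y => ?_⟩
  · rw [← KFlatLib.psiC_single_map, ← KFlatLib.psiC_single_map]
    exact congrArg (psiC 0 N _) hv
  · refine ⟨psiC 0 N _ y ≫ inv (psiC 0 (G.obj M) _ (kap G R α M)), hb.1 ?_⟩
    rw [KFlatLib.psiC_single_map, Category.assoc, IsIso.inv_hom_id, Category.comp_id]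

end Groth.Agent.BcMapZero
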